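import Groth.Prelude.Def_SekSuwa2
import Mathlib.RingTheory.DiscreteValuationRing.Basic
import Mathlib.RingTheory.Flat.FaithfullyFlat.Algebra
import Mathlib.RingTheory.Flat.TorsionFree
import Mathlib.FieldTheory.Perfect
import Mathlib.Tactic.LinearCombination

/-!
# Approximation of `N`-th powers modulo `λ^N`
-/

set_option autoImplicit false

universe u

open Finset

namespace Groth.Agent.GKBase

variable {R : Type u} [CommRing R] {lam : R} {N : ℕ}

/-- The coefficient form of the divisibility condition. -/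
theorem pow_dvd_choose (h : SekSuwa.DivCond lam N) {k : ℕ} (hk : 0 < k) :
    lam ^ N ∣ lam ^ k * (N.choose k : R) := by
  refine ⟨(SekSuwa.psiPoly lam N h).coeff k, ?_⟩
  have h1 := congrArg (fun q => Polynomial.coeff q k) (SekSuwa.psiPoly_spec h)
  simp only [Polynomial.coeff_C_mul] at h1
  rw [h1, Polynomial.coeff_sub, Polynomial.coeff_one, if_neg hk.ne', sub_zero, add_comm, add_pow,
    Polynomial.finsetSum_coeff]
  simp only [mul_pow, one_pow, _root_.mul_one, ← Polynomial.C_pow, ← Polynomial.C_eq_natCast, Polynomial.coeff_mul_C,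
    Polynomial.coeff_C_mul_X_pow]
  rw [Finset.sum_eq_single k]
  · simp
  · intro b _ hb; simp [Ne.symm hb]
  · intro hb
    rw [Finset.mem_range, not_lt] at hb
    simp [Nat.choose_eq_zero_of_lt (show N < k by omega)]

theorem add_pow_eq {B : Type u} [CommRing B] (x y e : B) (hN : 0 < N)
    (h : ∀ k, 0 < k → k < N → e ∣ (N.choose k : B) * y ^ k) :
    e ∣ (x + y) ^ N - x ^ N - y ^ N := by
  have e1 : (x + y) ^ N - x ^ N - y ^ N = ∑ k ∈ Finset.Ico 1 N, (N.choose k : B) * y ^ k * x ^ (N - k) := by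
    rw [add_comm x y, add_pow, Finset.range_eq_Ico, Finset.sum_Ico_succ_top (Nat.zero_le N),
      Finset.sum_eq_sum_Ico_succ_bot hN]
    simp only [pow_zero, one_mul, Nat.choose_zero_right, Nat.cast_one, mul_one, Nat.sub_zero, Nat.choose_self,
      Nat.sub_self]
    ring_nf
  rw [e1]
  refine Finset.dvd_sum fun k hk => ?_
  rw [Finset.mem_Ico] at hk
  exact (h k hk.1 hk.2).mul_right _

/-- `x ↦ x^N` is well defined from `mod λ` to `mod λ^N`. -/
theorem pow_sub_pow_dvd (h : SekSuwa.DivCond lam N) (hN : 0 < N) {B : Type u} [CommRing B] [Algebra R B] (x d : B) :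
    algebraMap R B lam ^ N ∣ (x + algebraMap R B lam * d) ^ N - x ^ N := by
  have e : algebraMap R B lam ^ N ∣ (x + algebraMap R B lam * d) ^ N - x ^ N - (algebraMap R B lam * d) ^ N := by
    refine add_pow_eq _ _ _ hN fun k hk _ => ?_
    have := map_dvd (algebraMap R B) (pow_dvd_choose h hk)
    rw [map_mul, map_pow, map_pow, map_natCast] at this
    rw [mul_pow, ← mul_assoc, mul_comm (N.choose k : B)]
    exact this.mul_right _
  have := dvd_add e (⟨d ^ N, by rw [mul_pow]⟩ : algebraMap R B lam ^ N ∣ (algebraMap R B lam * d) ^ N)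
  simpa using this

variable [IsDomain R]

/-- The expansion of an `N`-th power near a lower level. -/
theorem exists_expand (h : SekSuwa.DivCond lam N) (hN : 0 < N) {π u : R} {v j : ℕ} (hl : lam = u * π ^ v)
    (hlam : lam ≠ 0) (hj : j < v) {B : Type u} [CommRing B] [Algebra R B] (x y : B) :
    ∃ e : B, (x + algebraMap R B π ^ j * y) ^ N =
      x ^ N + algebraMap R B π ^ (N * j) * (y ^ N + algebraMap R B π * e) := by
  have hd : algebraMap R B π ^ (N * j + 1) ∣
      (x + algebraMap R B π ^ j * y) ^ N - x ^ N - (algebraMap R B π ^ j * y) ^ N := by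
    refine add_pow_eq _ _ _ hN fun k hk hkN => ?_
    have h1 : π ^ (N * j + 1) ∣ (N.choose k : R) * π ^ (j * k) := by
      obtain ⟨m, hm⟩ := pow_dvd_choose h hk
      have h2 : (N.choose k : R) = lam ^ (N - k) * m := mul_left_cancel₀ (pow_ne_zero k hlam) (by
        rw [hm, ← mul_assoc, ← pow_add, show k + (N - k) = N by omega])
      rw [h2, hl, mul_pow, ← pow_mul]
      refine dvd_trans (pow_dvd_pow π (show N * j + 1 ≤ v * (N - k) + j * k by
        obtain ⟨m', rfl⟩ : ∃ m', N = k + (m' + 1) := ⟨N - k - 1, by omega⟩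
        obtain ⟨w, rfl⟩ : ∃ w, v = j + (w + 1) := ⟨v - j - 1, by omega⟩
        rw [show k + (m' + 1) - k = m' + 1 by omega]
        nlinarith)) ⟨u ^ (N - k) * m, by rw [pow_add]; ring⟩
    have h3 := map_dvd (algebraMap R B) h1
    rw [map_mul, map_pow, map_pow, map_natCast] at h3
    rw [mul_pow, ← mul_assoc, ← pow_mul]
    exact h3.mul_right _
  obtain ⟨e, he⟩ := hd
  refine ⟨e, ?_⟩
  rw [pow_succ] at he
  have : (algebraMap R B π ^ j * y) ^ N = algebraMap R B π ^ (N * j) * y ^ N := by rw [mul_pow, ← pow_mul, mul_comm N j]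
  linear_combination he + this

variable [IsDiscreteValuationRing R]

/-- Uniqueness of `N`-th roots modulo `λ` over a base with reduced special fibre. -/
theorem dvd_sub_one (h : SekSuwa.DivCond lam N) (hN : 0 < N) (hlam : lam ≠ 0) {B : Type u} [CommRing B] [Algebra R B]
    [Module.Flat R B]
    (hred : ∀ (π : R), Irreducible π → ∀ y : B, algebraMap R B π ∣ y ^ N → algebraMap R B π ∣ y)
    {c : B} (hc : algebraMap R B lam ^ N ∣ c ^ N - 1) : algebraMap R B lam ∣ c - 1 := by
  obtain ⟨π, hπ⟩ := IsDiscreteValuationRing.exists_irreducible R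
  obtain ⟨v, u, hl⟩ := IsDiscreteValuationRing.eq_unit_mul_pow_irreducible hlam hπ
  have hreg : ∀ m : ℕ, IsSMulRegular B (π ^ m) := fun m =>
    Module.Flat.isSMulRegular_of_nonZeroDivisors (mem_nonZeroDivisors_of_ne_zero (pow_ne_zero m hπ.ne_zero))
  have key : ∀ j, j ≤ v → algebraMap R B π ^ j ∣ c - 1 := by
    intro j
    induction j with
    | zero => simp
    | succ j ih =>
      intro hj
      obtain ⟨y, hy⟩ := ih (by omega)
      obtain ⟨e, he⟩ := exists_expand h hN hl hlam (by omega : j < v) (1 : B) y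
      rw [← hy, add_sub_cancel, one_pow] at he
      have h1 : algebraMap R B π ^ (N * j + 1) ∣ c ^ N - 1 := by
        refine dvd_trans ?_ hc
        rw [hl, map_mul, mul_pow, map_pow, ← pow_mul]
        exact (pow_dvd_pow _ (show N * j + 1 ≤ v * N by nlinarith)).mul_left _
      obtain ⟨w, hw⟩ := h1
      rw [he, add_sub_cancel_left, pow_succ, mul_assoc] at hw
      have h2 : y ^ N + algebraMap R B π * e = algebraMap R B π * w := hreg (N * j) (by
        simp only [Algebra.smul_def, map_pow]; exact hw)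
      obtain ⟨y', hy'⟩ := hred π hπ y ⟨w - e, by linear_combination h2⟩
      exact ⟨y', by rw [hy, hy']; ring⟩
  obtain ⟨y, hy⟩ := key v le_rfl
  rw [hl, map_mul, map_pow]
  refine ⟨algebraMap R B ((u⁻¹ : Rˣ) : R) * y, ?_⟩
  rw [hy, show algebraMap R B (u : R) * algebraMap R B π ^ v * (algebraMap R B ((u⁻¹ : Rˣ) : R) * y) =
      algebraMap R B ((u : R) * ((u⁻¹ : Rˣ) : R)) * (algebraMap R B π ^ v * y) by rw [map_mul]; ring,
    Units.mul_inv, map_one, one_mul]

/-- An element of the base that is an `N`-th power modulo `λ^N` upstairs is one downstairs. -/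
theorem exists_root (p n : ℕ) [Fact p.Prime] [CharP (IsLocalRing.ResidueField R) p]
    [PerfectField (IsLocalRing.ResidueField R)] (h : SekSuwa.DivCond lam (p ^ n)) (hlam : lam ≠ 0)
    {B : Type u} [CommRing B] [Algebra R B] [Module.FaithfullyFlat R B]
    (hred : ∀ (π : R), Irreducible π → ∀ y : B, algebraMap R B π ∣ y ^ (p ^ n) → algebraMap R B π ∣ y)
    {a : R} (ha : IsUnit a) {c : B} (hc : algebraMap R B lam ^ (p ^ n) ∣ algebraMap R B a - c ^ (p ^ n)) :
    ∃ r : R, IsUnit r ∧ lam ^ (p ^ n) ∣ a - r ^ (p ^ n) := by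
  have hN : 0 < p ^ n := pow_pos (Fact.out : p.Prime).pos n
  obtain ⟨π, hπ⟩ := IsDiscreteValuationRing.exists_irreducible R
  obtain ⟨v, u, hl⟩ := IsDiscreteValuationRing.eq_unit_mul_pow_irreducible hlam hπ
  by_cases hv : v = 0
  · refine ⟨1, isUnit_one, ((?_ : IsUnit lam).pow _).dvd⟩
    rw [hl, hv, pow_zero, mul_one]
    exact u.isUnit
  have hcontr : ∀ (x r : R), algebraMap R B x ∣ algebraMap R B r → x ∣ r := fun x r hxr => by
    rw [← Ideal.mem_span_singleton]
    rw [← Ideal.comap_map_eq_self_of_faithfullyFlat (B := B) (Ideal.span {x}), Ideal.mem_comap, Ideal.map_span,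
      Set.image_singleton, Ideal.mem_span_singleton]
    exact hxr
  have hreg : ∀ m : ℕ, IsSMulRegular B (π ^ m) := fun m =>
    Module.Flat.isSMulRegular_of_nonZeroDivisors (mem_nonZeroDivisors_of_ne_zero (pow_ne_zero m hπ.ne_zero))
  have hmax : ∀ x : R, π ∣ x ↔ IsLocalRing.residue R x = 0 := fun x => by
    rw [IsLocalRing.residue_eq_zero_iff, hπ.maximalIdeal_eq, Ideal.mem_span_singleton]
  haveI : ExpChar (IsLocalRing.ResidueField R) p := ExpChar.prime Fact.out
  haveI : PerfectRing (IsLocalRing.ResidueField R) p := PerfectField.toPerfectRing p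
  have key : ∀ j, j ≤ v → ∃ r : R, algebraMap R B π ^ j ∣ c - algebraMap R B r := by
    intro j
    induction j with
    | zero => exact fun _ => ⟨0, by simp⟩
    | succ j ih =>
      intro hj
      obtain ⟨r, y, hy⟩ := ih (by omega)
      obtain ⟨e, he⟩ := exists_expand h hN hl hlam (by omega : j < v) (algebraMap R B r) y
      rw [← hy, add_sub_cancel] at he
      obtain ⟨w, hw⟩ : algebraMap R B π ^ (p ^ n * j + 1) ∣ algebraMap R B a - c ^ (p ^ n) := by
        refine dvd_trans ?_ hc
        rw [hl, map_mul, mul_pow, map_pow, ← pow_mul]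
        exact (pow_dvd_pow _ (show p ^ n * j + 1 ≤ v * p ^ n by nlinarith)).mul_left _
      rw [he, pow_succ] at hw
      obtain ⟨s, hs⟩ : π ^ (p ^ n * j) ∣ a - r ^ (p ^ n) := hcontr _ _ (by
        rw [map_sub, map_pow, map_pow]
        exact ⟨y ^ (p ^ n) + algebraMap R B π * e + algebraMap R B π * w, by linear_combination hw⟩)
      have h2 : algebraMap R B s = y ^ (p ^ n) + algebraMap R B π * e + algebraMap R B π * w := hreg (p ^ n * j) (by
        simp only [Algebra.smul_def, ← map_mul, ← hs]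
        rw [map_sub, map_pow, map_pow]
        linear_combination hw)
      obtain ⟨s₀, hs₀⟩ : ∃ s₀ : R, π ∣ s - s₀ ^ (p ^ n) := by
        obtain ⟨q, hq⟩ := (bijective_iterateFrobenius (R := IsLocalRing.ResidueField R) (p := p) n).2 (IsLocalRing.residue R s)
        obtain ⟨s₀, rfl⟩ := IsLocalRing.residue_surjective q
        refine ⟨s₀, (hmax _).2 ?_⟩
        rw [map_sub, map_pow, ← hq, iterateFrobenius_def, sub_self]
      obtain ⟨y', hy'⟩ : algebraMap R B π ∣ y - algebraMap R B s₀ := by
        refine hred π hπ _ ?_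
        have hp : ((p : ℕ) : B) ∈ Ideal.span {algebraMap R B π} := by
          rw [Ideal.mem_span_singleton, ← map_natCast (algebraMap R B)]
          exact map_dvd _ ((hmax _).2 (by rw [map_natCast, CharP.cast_eq_zero]))
        rw [← Ideal.mem_span_singleton, ← Ideal.Quotient.eq_zero_iff_mem, map_pow, map_sub]
        let J : Ideal B := Ideal.span {algebraMap R B π}
        rcases subsingleton_or_nontrivial (B ⧸ J) with hs' | hs'
        · exact Subsingleton.elim _ _
        haveI : CharP (B ⧸ J) p := (CharP.charP_iff_prime_eq_zero (Fact.out : p.Prime)).2 (by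
          rw [← map_natCast (Ideal.Quotient.mk J), Ideal.Quotient.eq_zero_iff_mem]; exact hp)
        haveI : ExpChar (B ⧸ J) p := ExpChar.prime Fact.out
        rw [sub_pow_expChar_pow, sub_eq_zero, ← map_pow, ← map_pow, Ideal.Quotient.eq, Ideal.mem_span_singleton]
        obtain ⟨t, ht⟩ := map_dvd (algebraMap R B) hs₀
        rw [map_sub, map_pow] at ht
        exact ⟨t - e - w, by linear_combination ht - h2⟩
      exact ⟨r + π ^ j * s₀, y', by rw [map_add, map_mul, map_pow]; linear_combination hy + algebraMap R B π ^ j * hy'⟩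
  obtain ⟨r, y, hy⟩ := key v le_rfl
  have hcr : algebraMap R B lam ^ (p ^ n) ∣ c ^ (p ^ n) - algebraMap R B r ^ (p ^ n) := by
    have hy2 : c = algebraMap R B r + algebraMap R B lam * (algebraMap R B ((u⁻¹ : Rˣ) : R) * y) := by
      rw [hl, map_mul, map_pow, show algebraMap R B (u : R) * algebraMap R B π ^ v * (algebraMap R B ((u⁻¹ : Rˣ) : R) * y) =
        algebraMap R B ((u : R) * ((u⁻¹ : Rˣ) : R)) * (algebraMap R B π ^ v * y) by rw [map_mul]; ring,
        Units.mul_inv, map_one, one_mul, ← hy, add_sub_cancel]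
    rw [hy2]
    exact pow_sub_pow_dvd h hN _ _
  have hd : lam ^ (p ^ n) ∣ a - r ^ (p ^ n) := hcontr _ _ (by
    rw [map_sub, map_pow, map_pow]
    simpa using dvd_add hc hcr)
  refine ⟨r, ?_, hd⟩
  by_contra hr
  have h1 : π ∣ r := by
    rw [hmax, IsLocalRing.residue_eq_zero_iff]
    exact hr
  have h2 : π ∣ lam ^ (p ^ n) := by
    rw [hl]
    exact dvd_pow (Dvd.dvd.mul_left (dvd_pow_self π hv) _) hN.ne'
  have h3 : π ∣ a := by
    have := dvd_add (h2.trans hd) (dvd_pow h1 hN.ne')
    simpa using this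
  exact hπ.not_isUnit (isUnit_of_dvd_unit h3 ha)

end Groth.Agent.GKBase
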