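import Groth.Agent.GKBase.Diag
import Groth.Agent.SekSuwaLib.GLamSection
import Groth.Agent.S14693

/-!
# The coordinate of a torsor under `μ_N` over a local base
-/

set_option autoImplicit false
set_option backward.isDefEq.respectTransparency false
set_option backward.isDefEq.respectTransparency.types false
set_option linter.style.haveILetI false

universe u

open CategoryTheory CategoryTheory.Limits MonoidalCategory CartesianMonoidalCategory MonObj GrpObj AlgebraicGeometry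

noncomputable section

namespace Groth.Agent.GKBase

open Groth.Agent.SekSuwaLib

variable {R : Type u} [CommRing R] {N : ℕ}

/-- The inclusion of roots of unity in the multiplicative group. -/
def iotaMu (R : Type u) [CommRing R] (N : ℕ) : Red.diag R (ZMod N) ⟶ Red.diag R ℤ :=
  SekSuwa.specHom (MonoidAlgebra.mapDomainBialgHom R
    (AddMonoidHom.toMultiplicative (Int.castAddHom (ZMod N))))

instance : IsMonHom (iotaMu R N) := SekSuwa.isMonHom_specHom _

/-- The generator of the character group of the roots of unity. -/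
abbrev gen₁ (R : Type u) [CommRing R] (N : ℕ) : MonoidAlgebra R (Multiplicative (ZMod N)) :=
  MonoidAlgebra.of R _ (Multiplicative.ofAdd 1)

theorem dc_iota {T : Over (Spec (CommRingCat.of R))} (x : T ⟶ Red.diag R (ZMod N)) :
    dc (x ≫ iotaMu R N) = ptRingHom x (gen₁ R N) := by
  rw [dc, iotaMu, ptRingHom_comp_specHom]
  simp [gen, gen₁]

theorem gen₁_pow : gen₁ R N ^ N = 1 := by
  rw [← map_pow, show (Multiplicative.ofAdd (1 : ZMod N)) ^ N = 1 from Multiplicative.toAdd.injective (by simp), map_one]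

/-- A torsor under `μ_N` over a local ring is given by the roots of a unit. -/
theorem exists_coord [IsLocalRing R] [NeZero N] {Q : Over (Spec (CommRingCat.of R))}
    (b : AlgGrp.Action (Red.diag R (ZMod N)) Q) (hQ : NonAbH1.IsTorsorFor Scheme.fppfPrecoverage b) :
    ∃ (γ : Q ⟶ Red.diag R ℤ) (a : R), IsUnit a ∧ dc γ ^ N = strHom Q a ∧
      ∀ (T : Over (Spec (CommRingCat.of R))) (g : T ⟶ Red.diag R (ZMod N)) (q : T ⟶ Q),
        dc ((lift g q ≫ b.act) ≫ γ) = dc (q ≫ γ) * ptRingHom g (gen₁ R N) := by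
  haveI : IsAffineHom (Red.diag R (ZMod N)).hom := inferInstanceAs (IsAffineHom (Spec.map _))
  haveI : IsAffineHom (Red.diag R ℤ).hom := inferInstanceAs (IsAffineHom (Spec.map _))
  have hfl : Flat (Red.diag R (ZMod N)).hom :=
    (HasRingHomProperty.Spec_iff (P := @Flat)).2 (RingHom.flat_algebraMap_iff.2 inferInstance)
  obtain ⟨γ₀, hγ₀⟩ := GLamSection.exists_equivariant (iotaMu R N) b hQ hfl
    (fun Q' b' h' => hasSection_of_isLocalRing b' h')
  have hinv' : ∀ {T : Over (Spec (CommRingCat.of R))} (x : T ⟶ Red.diag R ℤ), dc x * dc x⁻¹ = 1 := fun x => by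
    rw [← dc_mul, _root_.mul_inv_cancel x, dc_one]
  have heq : ∀ (T : Over (Spec (CommRingCat.of R))) (g : T ⟶ Red.diag R (ZMod N)) (q : T ⟶ Q),
      dc ((lift g q ≫ b.act) ≫ γ₀⁻¹) = dc (q ≫ γ₀⁻¹) * ptRingHom g (gen₁ R N) := by
    intro T g q
    have e1 := congrArg dc (hγ₀ T g q)
    rw [dc_mul, dc_iota] at e1
    have e2 := hinv' ((lift g q ≫ b.act) ≫ γ₀)
    have e3 := hinv' (q ≫ γ₀)
    rw [← GrpObj.comp_inv (lift g q ≫ b.act) γ₀] at e2
    rw [← GrpObj.comp_inv q γ₀] at e3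
    linear_combination (dc (q ≫ γ₀⁻¹) * ptRingHom g (gen₁ R N)) * e2 - dc ((lift g q ≫ b.act) ≫ γ₀⁻¹) * e3
      - (dc ((lift g q ≫ b.act) ≫ γ₀⁻¹) * dc (q ≫ γ₀⁻¹)) * e1
  have hfp : NonAbH1.IsTorsorFor Scheme.fpqcPrecoverage b :=
    ⟨hQ.1, hQ.2.choose, Scheme.fppfPrecoverage_le_fpqcPrecoverage _ hQ.2.choose_spec.1, hQ.2.choose_spec.2⟩
  have hinv : b.act ≫ (γ₀⁻¹ ^ N) = snd _ _ ≫ (γ₀⁻¹ ^ N) := by
    refine dc_injective ?_
    rw [MonObj.comp_pow, MonObj.comp_pow, dc_pow, dc_pow]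
    have := heq _ (fst (Red.diag R (ZMod N)) Q) (snd _ _)
    rw [lift_fst_snd, Category.id_comp] at this
    rw [this, mul_pow, ← map_pow, gen₁_pow, map_one, _root_.mul_one]
  obtain ⟨χ, hχ, -⟩ := Groth.Agent.SchTorsor.existsUnique_desc hfp (γ₀⁻¹ ^ N) hinv
  refine ⟨γ₀⁻¹, (Scheme.ΓSpecIso (CommRingCat.of R)).hom (dc χ), (isUnit_dc χ).map _, ?_, heq⟩
  have e : (toUnit Q).left = Q.hom := (Category.comp_id _).symm.trans (Over.w (toUnit Q))
  rw [← dc_pow, ← hχ, dc_comp, e]
  show Q.hom.appTop (dc χ) = Q.hom.appTop ((Scheme.ΓSpecIso (CommRingCat.of R)).inv _)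
  rw [Iso.hom_inv_id_apply]

end Groth.Agent.GKBase
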