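import Groth.Agent.SekSuwaLib.GLamTorsor
import Groth.Prelude.Def_Red

/-!
# Torsors under the split multiplicative group over a local base
-/

set_option autoImplicit false
set_option backward.isDefEq.respectTransparency false
set_option backward.isDefEq.respectTransparency.types false
set_option linter.style.haveILetI false

universe u

open CategoryTheory CategoryTheory.Limits MonoidalCategory CartesianMonoidalCategory MonObj GrpObj AlgebraicGeometry
open TensorProduct

noncomputable section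

namespace Groth.Agent.GKBase

open Groth.Agent.GmH1Lib.Hilbert90 Groth.Agent.CechTorsorX.ZariskiTriv Groth.Agent.CechTorsorX.GLCocycle
open Groth.Agent.SekSuwaLib

variable {R : Type u} [CommRing R] {T T' : Over (Spec (CommRingCat.of R))}

/-- The character group element `1`. -/
abbrev gen (R : Type u) [CommRing R] : MonoidAlgebra R (Multiplicative ℤ) :=
  MonoidAlgebra.of R (Multiplicative ℤ) (Multiplicative.ofAdd 1)

/-- The coordinate on the multiplicative group. -/
def dc (x : T ⟶ Red.diag R ℤ) : Γ(T.left, ⊤) := ptRingHom x (gen R)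

theorem dc_comp (v : T' ⟶ T) (x : T ⟶ Red.diag R ℤ) : dc (v ≫ x) = v.left.appTop (dc x) :=
  ptRingHom_comp_left v x (gen R)

theorem dc_mul (x y : T ⟶ Red.diag R ℤ) : dc (x * y) = dc x * dc y :=
  ptRingHom_mul_of_isGroupLike x y (MonoidAlgebra.isGroupLikeElem_of (R := R) (A := R) (Multiplicative.ofAdd (1 : ℤ)))

theorem isUnit_dc (x : T ⟶ Red.diag R ℤ) : IsUnit (dc x) :=
  ((Group.isUnit _).map (MonoidAlgebra.of R (Multiplicative ℤ))).map _

theorem dc_one : dc (1 : T ⟶ Red.diag R ℤ) = 1 := by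
  have h : dc ((1 : T ⟶ Red.diag R ℤ) * 1) = dc (1 : T ⟶ Red.diag R ℤ) * dc 1 := dc_mul _ _
  rw [_root_.mul_one] at h
  exact ((isUnit_dc _).mul_left_cancel (by rw [_root_.mul_one]; exact h.symm))

theorem dc_pow (x : T ⟶ Red.diag R ℤ) (n : ℕ) : dc (x ^ n) = dc x ^ n := by
  induction n with
  | zero => rw [pow_zero, pow_zero, dc_one]
  | succ k ih => rw [pow_succ, pow_succ, dc_mul, ih]

theorem dc_injective {x y : T ⟶ Red.diag R ℤ} (h : dc x = dc y) : x = y := by
  refine ptRingHom_injective ?_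
  letI := algΓ T
  let φ : MonoidAlgebra R (Multiplicative ℤ) →ₐ[R] Γ(T.left, ⊤) :=
    { ptRingHom x with commutes' := ptRingHom_algebraMap x }
  let ψ : MonoidAlgebra R (Multiplicative ℤ) →ₐ[R] Γ(T.left, ⊤) :=
    { ptRingHom y with commutes' := ptRingHom_algebraMap y }
  exact congrArg AlgHom.toRingHom ((MonoidAlgebra.lift R Γ(T.left, ⊤) (Multiplicative ℤ)).symm.injective
    (show (MonoidAlgebra.lift R Γ(T.left, ⊤) (Multiplicative ℤ)).symm φ =
      (MonoidAlgebra.lift R Γ(T.left, ⊤) (Multiplicative ℤ)).symm ψ from MonoidHom.ext_mint h))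

theorem exists_dc (w : Γ(T.left, ⊤)ˣ) : ∃ x : T ⟶ Red.diag R ℤ, dc x = w := by
  letI := algΓ T
  let φ : MonoidAlgebra R (Multiplicative ℤ) →ₐ[R] Γ(T.left, ⊤) :=
    MonoidAlgebra.lift R Γ(T.left, ⊤) (Multiplicative ℤ) ((Units.coeHom _).comp (zpowersHom _ w))
  refine ⟨ofRingHom φ.toRingHom fun r => φ.commutes r, ?_⟩
  rw [dc, ptRingHom_ofRingHom]
  exact (MonoidAlgebra.lift_of (R := R) (A := Γ(T.left, ⊤)) _ _).trans (by simp)

variable {R' B C : Type u} [CommRing R'] [CommRing B] [CommRing C] [Algebra R' B] [Algebra R' C]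
  {j : Spec (CommRingCat.of R') ⟶ Spec (CommRingCat.of R)}

/-- The coordinate in an algebra. -/
def dv (x : sp j B ⟶ Red.diag R ℤ) : B := GLamTorsor.fn j B (dc x)

theorem dv_sh (h : B →ₐ[R'] C) (x : sp j B ⟶ Red.diag R ℤ) : dv (sh h ≫ x) = h (dv x) := by
  rw [dv, dc_comp]; exact GLamTorsor.fn_sh h _

theorem dv_mul (x y : sp j B ⟶ Red.diag R ℤ) : dv (x * y) = dv x * dv y := by
  rw [dv, dc_mul, map_mul]; rfl

theorem dv_injective {x y : sp j B ⟶ Red.diag R ℤ} (h : dv x = dv y) : x = y :=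
  dc_injective (GLamTorsor.fn_injective h)

theorem exists_dv {b : B} (hb : IsUnit b) : ∃ x : sp j B ⟶ Red.diag R ℤ, dv x = b := by
  obtain ⟨z, rfl⟩ := GLamTorsor.fn_surjective (j := j) b
  obtain ⟨w, rfl⟩ : IsUnit z := (isUnit_map_iff (Scheme.ΓSpecIso (CommRingCat.of B)).commRingCatIsoToRingEquiv _).1 hb
  obtain ⟨x, hx⟩ := exists_dc (T := sp j B) w
  exact ⟨x, by rw [dv, hx]⟩

/-- Hilbert 90 for the split multiplicative group. -/
theorem localH90On_diag : GLamTorsor.LocalH90On (Red.diag R ℤ) (fun _ _ _ => True) := by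
  intro R' A _ _ _ _ j _ g hc p
  have hc' : p02 R' A (dv g) = p01 R' A (dv g) * p12 R' A (dv g) := by
    rw [← dv_sh, ← dv_sh, ← dv_sh, hc, dv_mul]
  let M : Matrix (Fin 1) (Fin 1) (A ⊗[R'] A) := Matrix.of fun _ _ => dv g
  have hM : IsUnit M := (Matrix.isUnit_iff_isUnit_det _).2 (by
    rw [Matrix.det_fin_one]
    exact (isUnit_dc g).map (GLamTorsor.fn j (A ⊗[R'] A)))
  obtain ⟨f₀, hf₀, N, hN, k, b₀, hb₀⟩ := exists_matrix hM.unit (by
    ext i i'
    simpa [Matrix.mul_apply, M] using hc') p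
  rw [Matrix.det_fin_one] at hb₀
  refine ⟨f₀, hf₀, ?_⟩
  let ι₀ := cι R' A f₀
  have hu : IsUnit (ι₀ (N 0 0)) := by
    have h1 : IsUnit (ι₀ (N 0 0 * b₀)) := by
      rw [hb₀, map_pow, AlgHom.commutes]
      refine IsUnit.pow k ?_
      rw [IsScalarTower.algebraMap_apply R' (Localization.Away f₀) (CC R' A f₀)]
      exact (IsLocalization.Away.algebraMap_isUnit f₀).map _
    rw [map_mul] at h1
    exact isUnit_of_mul_isUnit_left h1
  obtain ⟨x, hx⟩ := exists_dv (j := j) hu
  refine ⟨x, dv_injective ?_⟩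
  rw [dv_mul, dv_sh, dv_sh, dv_sh, hx]
  have h2 := congrArg (Algebra.TensorProduct.map ι₀ ι₀).mapMatrix hN
  have h3 := congrFun₂ h2 0 0
  simpa [Matrix.mul_apply, M, ι₀, Algebra.TensorProduct.one_def] using h3

/-- A torsor under the multiplicative group over a local ring is trivial. -/
theorem hasSection_of_isLocalRing [IsLocalRing R] {Q : Over (Spec (CommRingCat.of R))}
    (b : AlgGrp.Action (Red.diag R ℤ) Q) (hQ : NonAbH1.IsTorsorFor Scheme.fppfPrecoverage b) :
    NonAbH1.HasSectionOver Q (𝟙 (Spec (CommRingCat.of R))) := by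
  have e : (toUnit Q).left = Q.hom := (Category.comp_id _).symm.trans (Over.w (toUnit Q))
  have hloc : NonAbH1.IsLocallyTrivialFor Scheme.fpqcPrecoverage
      (Over.mk (toUnit Q).left : Over (𝟙_ (Over (Spec (CommRingCat.of R)))).left) := by
    rw [e]
    exact ⟨hQ.2.choose, Scheme.fppfPrecoverage_le_fpqcPrecoverage _ hQ.2.choose_spec.1, hQ.2.choose_spec.2⟩
  have key := GLamTorsor.isLocallyTrivial_of_localH90On localH90On_diag (fun _ _ _ _ => trivial)
    b (toUnit Q) (toUnit_unique _ _) (fun T x y _ => Groth.Agent.SchTorsor.exists_div hQ.1 x y)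
    (fun T g g' y hg => Groth.Agent.SchTorsor.act_free hQ.1 hg) hloc
  rw [e] at key
  obtain ⟨Rz, hRz, hsec⟩ := key
  obtain ⟨J, U, g, rfl⟩ := Rz.exists_eq_ofArrows
  obtain ⟨hcov, hop⟩ := (Scheme.ofArrows_mem_precoverage_iff _).1 hRz
  obtain ⟨i, hi⟩ := hcov (IsLocalRing.closedPoint R)
  haveI := hop i
  obtain ⟨s, hs⟩ := hsec (g i) ⟨i⟩
  have htop : (g i).opensRange = ⊤ := by
    ext z
    simp only [TopologicalSpace.Opens.coe_top, Set.mem_univ, iff_true]
    exact ((IsLocalRing.specializes_closedPoint z).mem_open (g i).opensRange.2 hi)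
  haveI : IsIso (g i) := isIso_of_isOpenImmersion_of_opensRange_eq_top (g i) htop
  exact ⟨CategoryTheory.inv (g i) ≫ s, (Category.assoc _ _ _).trans ((congrArg (CategoryTheory.inv (g i) ≫ ·) hs).trans (IsIso.inv_hom_id _))⟩

end Groth.Agent.GKBase
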