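import Groth.Agent.GKBase.Alg
import Groth.Agent.SekSuwaLib.GLamSection
import Groth.Agent.SchTorsor.Props
import Mathlib.AlgebraicGeometry.Pullbacks
import Mathlib.AlgebraicGeometry.Properties

/-!
# A function that is locally constant modulo `λ` is congruent to a constant of the base
-/

set_option autoImplicit false
set_option backward.isDefEq.respectTransparency false
set_option backward.isDefEq.respectTransparency.types false
set_option linter.style.haveILetI false
set_option synthInstance.maxHeartbeats 400000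

universe u

open CategoryTheory CategoryTheory.Limits MonoidalCategory CartesianMonoidalCategory MonObj GrpObj AlgebraicGeometry
open TensorProduct

noncomputable section

namespace Groth.Agent.GKBase

open Groth.Agent.SekSuwaLib Groth.Agent.SekSuwaLib.GLamTorsor Groth.Agent.SekSuwaLib.GLamSection
open Groth.Agent.CechTorsorX.ZariskiTriv Groth.Agent.SekSuwaLib.GLamH90

/-- Divisibility descends along faithfully flat maps. -/
theorem dvd_of_ff {A B : Type u} [CommRing A] [CommRing B] [Algebra A B] [Module.FaithfullyFlat A B] {x r : A}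
    (hxr : algebraMap A B x ∣ algebraMap A B r) : x ∣ r := by
  rw [← Ideal.mem_span_singleton, ← Ideal.comap_map_eq_self_of_faithfullyFlat (B := B) (Ideal.span {x}),
    Ideal.mem_comap, Ideal.map_span, Set.image_singleton, Ideal.mem_span_singleton]
  exact hxr

variable {R : Type u} [CommRing R] {X : Scheme.{u}} (f : X ⟶ Spec (CommRingCat.of R))

/-- The structure map of an affine scheme over the base. -/
def ρ {B : Type u} [CommRing B] (j : Spec (CommRingCat.of B) ⟶ X) : R →+* B :=
  (Scheme.ΓSpecIso (CommRingCat.of B)).hom.hom.comp (strHom ((Over.map f).obj (Over.mk j)))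

theorem lv_eq {B : Type u} [CommRing B] (j : Spec (CommRingCat.of B) ⟶ X) (r : R) : lv f r j = ρ f j r := rfl

theorem SpecMap_ρ {B : Type u} [CommRing B] (j : Spec (CommRingCat.of B) ⟶ X) :
    Spec.map (CommRingCat.ofHom (ρ f j)) = j ≫ f := by
  have e : CommRingCat.ofHom (ρ f j) = Spec.preimage (j ≫ f) := by
    ext r
    show (Scheme.ΓSpecIso (CommRingCat.of B)).hom ((j ≫ f).appTop ((Scheme.ΓSpecIso (CommRingCat.of R)).inv r)) = _
    conv_lhs => rw [← Spec.map_preimage (j ≫ f)]
    exact (congrArg (fun ψ => (ConcreteCategory.hom ψ) ((Scheme.ΓSpecIso (CommRingCat.of R)).inv r))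
      (Scheme.ΓSpecIso_naturality (Spec.preimage (j ≫ f)))).trans
        (congrArg (Spec.preimage (j ≫ f)).hom (Iso.inv_hom_id_apply (Scheme.ΓSpecIso (CommRingCat.of R)) r))
  rw [e, Spec.map_preimage]

theorem flat_ρ [Flat f] {B : Type u} [CommRing B] (j : Spec (CommRingCat.of B) ⟶ X) [Flat j] :
    letI := (ρ f j).toAlgebra
    Module.Flat R B := by
  letI := (ρ f j).toAlgebra
  have h : Flat (Spec.map (CommRingCat.ofHom (ρ f j))) := by
    rw [SpecMap_ρ]; infer_instance
  exact (HasRingHomProperty.Spec_iff (P := @Flat)).1 h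

theorem ff_ρ [IsLocalRing R] [Flat f] {B : Type u} [CommRing B] (j : Spec (CommRingCat.of B) ⟶ X) [Flat j]
    (q : Spec (CommRingCat.of B)) (hq : f (j q) = IsLocalRing.closedPoint R) :
    letI := (ρ f j).toAlgebra
    Module.FaithfullyFlat R B := by
  letI := (ρ f j).toAlgebra
  haveI := flat_ρ f j
  have hq' : (Spec.map (CommRingCat.ofHom (ρ f j))) q = IsLocalRing.closedPoint R := by
    rw [SpecMap_ρ, Scheme.Hom.comp_apply]; exact hq
  have hcomap : q.asIdeal.comap (ρ f j) = IsLocalRing.maximalIdeal R := congrArg PrimeSpectrum.asIdeal hq'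
  rw [Module.FaithfullyFlat.iff_flat_and_ideal_smul_eq_top]
  refine ⟨inferInstance, fun I hI => ?_⟩
  by_contra hne
  have h1 : I.map (ρ f j) ≤ q.asIdeal := Ideal.map_le_iff_le_comap.2 ((IsLocalRing.le_maximalIdeal hne).trans hcomap.ge)
  rw [Ideal.smul_top_eq_map] at hI
  have h2 : I.map (algebraMap R B) = ⊤ := by
    rw [eq_top_iff]
    intro x _
    have := (SetLike.ext_iff.1 hI x).2 Submodule.mem_top
    exact this
  exact q.2.ne_top (eq_top_iff.2 (h2.ge.trans h1))

/-- The closed fibre of an affine open is reduced. -/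
theorem hred_ρ [IsDomain R] [IsDiscreteValuationRing R]
    [IsReduced (Limits.pullback f (Spec.map (CommRingCat.ofHom (IsLocalRing.residue R))))]
    {B : Type u} [CommRing B] (j : Spec (CommRingCat.of B) ⟶ X) [IsOpenImmersion j] (N : ℕ) (π : R)
    (hπ : Irreducible π) (y : B) (hy : ρ f j π ∣ y ^ N) : ρ f j π ∣ y := by
  letI := (ρ f j).toAlgebra
  let k := IsLocalRing.ResidueField R
  let m := pullback.map (Spec.map (CommRingCat.ofHom (algebraMap R B))) (Spec.map (CommRingCat.ofHom (algebraMap R k)))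
    f (Spec.map (CommRingCat.ofHom (IsLocalRing.residue R))) j (𝟙 _) (𝟙 _)
    ((Category.comp_id _).trans (SpecMap_ρ f j)) ((Category.comp_id _).trans (Category.id_comp _).symm)
  haveI : IsReduced (pullback (Spec.map (CommRingCat.ofHom (algebraMap R B)))
      (Spec.map (CommRingCat.ofHom (algebraMap R k)))) := isReduced_of_isOpenImmersion m
  haveI : IsReduced (Spec (CommRingCat.of (B ⊗[R] k))) := isReduced_of_isOpenImmersion (pullbackSpecIso R B k).inv
  haveI : _root_.IsReduced (B ⊗[R] k) :=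
    (affine_isReduced_iff (CommRingCat.of (B ⊗[R] k))).1 inferInstance
  have hπk : algebraMap R k π = 0 := by
    show IsLocalRing.residue R π = 0
    rw [IsLocalRing.residue_eq_zero_iff, hπ.maximalIdeal_eq]
    exact Ideal.mem_span_singleton_self π
  obtain ⟨b, hb⟩ := hy
  have h0 : (y ⊗ₜ[R] (1 : k)) = 0 := by
    refine IsNilpotent.eq_zero ⟨N, ?_⟩
    rw [Algebra.TensorProduct.tmul_pow, one_pow, hb]
    show (algebraMap R B π * b) ⊗ₜ[R] (1 : k) = 0
    rw [← Algebra.smul_def, TensorProduct.smul_tmul, Algebra.smul_def, hπk, zero_mul, TensorProduct.tmul_zero]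
  have e2 : (Submodule.Quotient.mk y : B ⧸ (IsLocalRing.maximalIdeal R • (⊤ : Submodule R B))) = 0 :=
    (TensorProduct.tensorQuotEquivQuotSMul B (IsLocalRing.maximalIdeal R)).symm.injective (by
      rw [TensorProduct.tensorQuotEquivQuotSMul_symm_mk, map_zero]; exact h0)
  rw [Submodule.Quotient.mk_eq_zero, hπ.maximalIdeal_eq, Submodule.ideal_span_singleton_smul,
    Submodule.mem_smul_pointwise_iff_exists] at e2
  obtain ⟨d, -, hd⟩ := e2
  exact ⟨d, by rw [← hd, Algebra.smul_def]; rfl⟩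

theorem lamOn_pow {V : Over X} (r : R) (n : ℕ) : lamOn f (r ^ n) V = lamOn f r V ^ n := map_pow _ _ _

variable {P : Over X}

/-- On an affine piece with a point of `P`, the function is a constant modulo `λ`. -/
theorem exists_local (z : Γ(P.left, ⊤)) {lam : R}
    (hdiv : ∀ (W : Over X) (x y : W ⟶ P), ∃ e : Γ(W.left, ⊤),
      x.left.appTop z = y.left.appTop z * (1 + lamOn f lam W * e))
    {B C : Type u} [CommRing B] [CommRing C] [Algebra B C] [Module.FaithfullyFlat B C]
    (j : Spec (CommRingCat.of B) ⟶ X) (x : sp j C ⟶ P) :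
    ∃ (c : B) (d : C), fn j C (x.left.appTop z) = algebraMap B C c + lv f lam j • d := by
  let iL' : C →ₐ[B] C ⊗[B] C := Algebra.TensorProduct.includeLeft
  let iR' : C →ₐ[B] C ⊗[B] C := Algebra.TensorProduct.includeRight
  obtain ⟨e, he⟩ := hdiv (sp j (C ⊗[B] C)) (sh iL' ≫ x) (sh iR' ≫ x)
  have h1 := congrArg (fn j (C ⊗[B] C)) he
  rw [map_mul, map_add, map_one, map_mul, fn_lamOn] at h1
  have hx : ∀ (i : C →ₐ[B] C ⊗[B] C), fn j (C ⊗[B] C) ((sh i ≫ x).left.appTop z) = i (fn j C (x.left.appTop z)) := by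
    intro i
    rw [show (sh i ≫ x).left.appTop z = (sh i).left.appTop (x.left.appTop z) by
      rw [Over.comp_left, Scheme.Hom.comp_appTop]; rfl]
    exact fn_sh i _
  rw [hx, hx] at h1
  refine exists_const_mod (lv f lam j) _ (iR' (fn j C (x.left.appTop z)) * fn j (C ⊗[B] C) e) ?_
  show iL' _ - iR' _ = _
  rw [h1, Algebra.smul_def]
  ring

theorem fn_const {B C : Type u} [CommRing B] [CommRing C] [Algebra B C] (j : Spec (CommRingCat.of B) ⟶ X)
    (x : sp j C ⟶ P) (a : R) : fn j C (x.left.appTop (lamOn f a P)) = algebraMap B C (ρ f j a) := by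
  rw [← lamOn_comp f x]; exact fn_lamOn f

/-- Two points of `P` have congruent values. -/
theorem dvd_of_point (z : Γ(P.left, ⊤)) {lam r : R}
    (hdiv : ∀ (W : Over X) (x y : W ⟶ P), ∃ e : Γ(W.left, ⊤),
      x.left.appTop z = y.left.appTop z * (1 + lamOn f lam W * e))
    {B C D : Type u} [CommRing B] [CommRing C] [CommRing D] [Algebra B C] [Algebra B D] [Module.FaithfullyFlat B C]
    (j : Spec (CommRingCat.of B) ⟶ X) (x : sp j C ⟶ P) (y : sp j D ⟶ P)
    (hx : algebraMap B C (ρ f j lam) ∣ fn j C (x.left.appTop (z - lamOn f r P))) :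
    algebraMap B D (ρ f j lam) ∣ fn j D (y.left.appTop (z - lamOn f r P)) := by
  let iD : D →ₐ[B] D ⊗[B] C := Algebra.TensorProduct.includeLeft
  let iC : C →ₐ[B] D ⊗[B] C := Algebra.TensorProduct.includeRight
  obtain ⟨e, he⟩ := hdiv (sp j (D ⊗[B] C)) (sh iD ≫ y) (sh iC ≫ x)
  have h1 := congrArg (fn j (D ⊗[B] C)) he
  rw [map_mul, map_add, map_one, map_mul, fn_lamOn] at h1
  have hx' : fn j (D ⊗[B] C) ((sh iC ≫ x).left.appTop z) = iC (fn j C (x.left.appTop z)) := by
    rw [show (sh iC ≫ x).left.appTop z = (sh iC).left.appTop (x.left.appTop z) by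
      rw [Over.comp_left, Scheme.Hom.comp_appTop]; rfl]
    exact fn_sh iC _
  have hy' : fn j (D ⊗[B] C) ((sh iD ≫ y).left.appTop z) = iD (fn j D (y.left.appTop z)) := by
    rw [show (sh iD ≫ y).left.appTop z = (sh iD).left.appTop (y.left.appTop z) by
      rw [Over.comp_left, Scheme.Hom.comp_appTop]; rfl]
    exact fn_sh iD _
  rw [hx', hy', lv_eq] at h1
  refine dvd_of_ff (B := D ⊗[B] C) ?_
  rw [← IsScalarTower.algebraMap_apply B D (D ⊗[B] C)]
  obtain ⟨d, hd⟩ := hx
  rw [map_sub, map_sub, fn_const, sub_eq_iff_eq_add] at hd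
  rw [map_sub, map_sub, fn_const]
  show _ ∣ iD (fn j D (y.left.appTop z) - algebraMap B D (ρ f j r))
  rw [map_sub, h1, hd, map_add, map_mul, AlgHom.commutes, AlgHom.commutes, AlgHom.commutes]
  exact ⟨iC d + iC (algebraMap B C (ρ f j lam) * d + algebraMap B C (ρ f j r)) * fn j (D ⊗[B] C) e, by
    rw [map_add, map_mul, AlgHom.commutes, AlgHom.commutes]; ring⟩

/-- A function on `P` that is constant modulo `λ` along the fibres and has constant `p^n`-th power is congruent
to a constant of the base modulo `λ`. -/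
theorem exists_congr [IsDomain R] [IsDiscreteValuationRing R] (p n : ℕ) [Fact p.Prime]
    [CharP (IsLocalRing.ResidueField R) p] [PerfectField (IsLocalRing.ResidueField R)]
    {lam : R} (h : SekSuwa.DivCond lam (p ^ n)) (hlam : lam ≠ 0) [Flat f] [Surjective f] [Flat P.hom]
    [IsReduced (Limits.pullback f (Spec.map (CommRingCat.ofHom (IsLocalRing.residue R))))]
    (hloc : NonAbH1.IsLocallyTrivialFor Scheme.fpqcPrecoverage P) (z : Γ(P.left, ⊤))
    (a : R) (ha : IsUnit a) (hzN : z ^ (p ^ n) = lamOn f a P)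
    (hdiv : ∀ (W : Over X) (x y : W ⟶ P), ∃ e : Γ(W.left, ⊤),
      x.left.appTop z = y.left.appTop z * (1 + lamOn f lam W * e)) :
    ∃ (r : R) (x : P ⟶ Red.bc f (SekSuwa.G R lam)), IsUnit r ∧ lam ^ (p ^ n) ∣ a - r ^ (p ^ n) ∧
      z = lamOn f r P * (1 + lamOn f lam P * tCoord f x) := by
  have hN : 0 < p ^ n := pow_pos (Fact.out : p.Prime).pos n
  have hA : ∀ (B : Type u) [CommRing B] (j : Spec (CommRingCat.of B) ⟶ X) [IsOpenImmersion j],
      ∃ (C : Type u) (_ : CommRing C) (_ : Algebra B C) (_ : Module.FaithfullyFlat B C) (x : sp j C ⟶ P) (c : B)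
        (d : C), fn j C (x.left.appTop z) = algebraMap B C c + lv f lam j • d ∧
        (ρ f j lam) ^ (p ^ n) ∣ ρ f j a - c ^ (p ^ n) := by
    intro B _ j _
    obtain ⟨Z, q, hq1, hq2, hq3, s₀, hs₀⟩ := Groth.Agent.SchTorsor.exists_single hloc j
    haveI := hq1; haveI := hq2; haveI := hq3
    obtain ⟨C, _, _, g, hC, hg⟩ := exists_ff_algebra q
    haveI := hC
    let x : sp j C ⟶ P := Over.homMk (g ≫ s₀) (by
      show (g ≫ s₀) ≫ P.hom = Spec.map _ ≫ j
      rw [Category.assoc, hs₀, ← Category.assoc, hg])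
    obtain ⟨c, d, hcd⟩ := exists_local f z hdiv j x
    refine ⟨C, inferInstance, inferInstance, hC, x, c, d, hcd, dvd_of_ff (B := C) ?_⟩
    letI : Algebra R B := (ρ f j).toAlgebra
    letI : Algebra R C := ((algebraMap B C).comp (ρ f j)).toAlgebra
    rw [map_pow, map_sub, map_pow]
    have hz : fn j C (x.left.appTop z) ^ (p ^ n) = algebraMap B C (ρ f j a) := by
      rw [← map_pow, ← map_pow, hzN]; exact fn_const f j x a
    rw [← hz, hcd, Algebra.smul_def, lv_eq]
    exact pow_sub_pow_dvd (B := C) h hN (algebraMap B C c) d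
  obtain ⟨x₀, hx₀⟩ := Surjective.surj (f := f) (IsLocalRing.closedPoint R)
  obtain ⟨U₀, hU₀, hxU₀, -⟩ := exists_isAffineOpen_mem_and_subset (show x₀ ∈ (⊤ : X.Opens) from trivial)
  obtain ⟨q₀, hq₀⟩ : x₀ ∈ Set.range hU₀.fromSpec := by rw [hU₀.range_fromSpec]; exact hxU₀
  obtain ⟨r, hr, har⟩ : ∃ r : R, IsUnit r ∧ lam ^ (p ^ n) ∣ a - r ^ (p ^ n) := by
    obtain ⟨C, _, _, _, x, c, d, -, hc⟩ := hA Γ(X, U₀) hU₀.fromSpec
    letI : Algebra R Γ(X, U₀) := (ρ f hU₀.fromSpec).toAlgebra
    haveI : Module.FaithfullyFlat R Γ(X, U₀) := ff_ρ f hU₀.fromSpec q₀ (by rw [hq₀]; exact hx₀)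
    exact exists_root p n h hlam (B := Γ(X, U₀)) (fun π hπ y hy => hred_ρ f hU₀.fromSpec _ π hπ y hy) ha hc
  have hB : ∀ (B : Type u) [CommRing B] (j : Spec (CommRingCat.of B) ⟶ X) [IsOpenImmersion j] (D : Type u)
      [CommRing D] [Algebra B D] (y : sp j D ⟶ P),
      algebraMap B D (ρ f j lam) ∣ fn j D (y.left.appTop (z - lamOn f r P)) := by
    intro B _ j _ D _ _ y
    obtain ⟨C, _, _, _, x, c, d, hcd, hc⟩ := hA B j
    refine dvd_of_point f z hdiv j x y ?_
    letI : Algebra R B := (ρ f j).toAlgebra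
    haveI : Module.Flat R B := flat_ρ f j
    obtain ⟨ri, hri⟩ := (hr.map (ρ f j)).exists_left_inv
    have h1 : algebraMap R B lam ^ (p ^ n) ∣ (c * ri) ^ (p ^ n) - 1 := by
      have h2' : algebraMap R B lam ^ (p ^ n) ∣ ρ f j (a - r ^ (p ^ n)) := by
        have := map_dvd (ρ f j) har
        rw [map_pow] at this
        exact this
      rw [map_sub, map_pow] at h2'
      have h2 : algebraMap R B lam ^ (p ^ n) ∣ c ^ (p ^ n) - ρ f j r ^ (p ^ n) := by
        have h3 := dvd_sub h2' (show algebraMap R B lam ^ (p ^ n) ∣ ρ f j a - c ^ (p ^ n) from hc)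
        rwa [sub_sub_sub_cancel_left] at h3
      rw [mul_pow, ← one_pow (M := B) (p ^ n), ← hri, mul_pow, mul_comm (ri ^ (p ^ n)), ← sub_mul]
      exact h2.mul_right _
    obtain ⟨w, hw⟩ := dvd_sub_one h hN hlam (fun π hπ y hy => hred_ρ f j _ π hπ y hy) h1
    have hw' : c = ρ f j r + ρ f j lam * (ρ f j r * w) := by
      have : c * ri - 1 = ρ f j lam * w := hw
      linear_combination ρ f j r * this - c * hri
    rw [map_sub, map_sub, fn_const, hcd, hw', map_add, map_mul, lv_eq, Algebra.smul_def]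
    exact ⟨algebraMap B C (ρ f j r * w) + d, by ring⟩
  have hz0 : IsUnit z := by
    refine (isUnit_pow_iff hN.ne').1 ?_
    rw [hzN]; exact ha.map _
  -- charts
  have hch : ∀ v : P.left, ∃ (D : Type u) (_ : CommRing D) (g : Spec (CommRingCat.of D) ⟶ P.left)
      (x : Over.mk (g ≫ P.hom) ⟶ Red.bc f (SekSuwa.G R lam)), IsOpenImmersion g ∧ v ∈ Set.range g ∧
      (Over.homMk g rfl : Over.mk (g ≫ P.hom) ⟶ P).left.appTop z = lamOn f r (Over.mk (g ≫ P.hom)) *
        (1 + lamOn f lam (Over.mk (g ≫ P.hom)) * tCoord f x) := by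
    intro v
    obtain ⟨U, hU, hvU, -⟩ := exists_isAffineOpen_mem_and_subset (show P.hom v ∈ (⊤ : X.Opens) from trivial)
    obtain ⟨V, hV, hvV, hVU⟩ := exists_isAffineOpen_mem_and_subset (show v ∈ P.hom ⁻¹ᵁ U from hvU)
    let e : V ≤ P.hom ⁻¹ᵁ U := hVU
    letI : Algebra Γ(X, U) Γ(P.left, V) := (P.hom.appLE U V e).hom.toAlgebra
    let g : Spec (CommRingCat.of Γ(P.left, V)) ⟶ P.left := hV.fromSpec
    let y : sp hU.fromSpec Γ(P.left, V) ⟶ P := Over.homMk g (hU.SpecMap_appLE_fromSpec P.hom hV e).symm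
    obtain ⟨d, hd⟩ := hB Γ(X, U) hU.fromSpec Γ(P.left, V) y
    obtain ⟨d', rfl⟩ := fn_surjective (j := hU.fromSpec) d
    rw [← lv_eq, ← fn_lamOn f, ← map_mul] at hd
    have hd' := fn_injective hd
    rw [map_sub, ← lamOn_comp f y, sub_eq_iff_eq_add] at hd'
    have hrV : IsUnit (lamOn f r (sp hU.fromSpec Γ(P.left, V))) := hr.map _
    obtain ⟨ri, hri⟩ := hrV.exists_left_inv
    let y' : Over.mk (g ≫ P.hom) ⟶ sp hU.fromSpec Γ(P.left, V) := Over.homMk (𝟙 _) (by
      show 𝟙 _ ≫ Spec.map _ ≫ hU.fromSpec = g ≫ P.hom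
      rw [Category.id_comp]; exact hU.SpecMap_appLE_fromSpec P.hom hV e)
    have hd'' : y.left.appTop z = lamOn f r _ * (1 + lamOn f lam _ * (ri * d')) := by
      rw [hd']
      linear_combination (-(lamOn f lam (sp hU.fromSpec Γ(P.left, V)) * d')) * hri
    have hu : IsUnit (1 + lamOn f lam (sp hU.fromSpec Γ(P.left, V)) * (ri * d')) := by
      have := hz0.map y.left.appTop.hom
      rw [show y.left.appTop.hom z = _ from hd''] at this
      exact isUnit_of_mul_isUnit_right this
    obtain ⟨x, hx⟩ := exists_pt f (ri * d') hu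
    refine ⟨_, inferInstance, g, y' ≫ x, inferInstanceAs (IsOpenImmersion hV.fromSpec),
      hV.range_fromSpec.symm.subset hvV, ?_⟩
    rw [tCoord_comp, hx, lamOn_comp f y', lamOn_comp f y']
    have e3 := congrArg y'.left.appTop.hom hd''
    rw [map_mul, map_add, map_one, map_mul] at e3
    refine Eq.trans ?_ e3
    show g.appTop z = (𝟙 _ : Spec (CommRingCat.of Γ(P.left, V)) ⟶ _).appTop (g.appTop z)
    rw [Scheme.Hom.id_appTop]; rfl
  choose D hD g x hg hvg hgx using hch
  let 𝒰 : P.left.OpenCover :=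
    { I₀ := P.left
      X := fun v => Spec (CommRingCat.of (D v))
      f := fun v => g v
      mem₀ := (Scheme.ofArrows_mem_precoverage_iff _).2 ⟨fun v => ⟨v, hvg v⟩, hg⟩ }
  have hglue : ∀ v w, pullback.fst (𝒰.f v) (𝒰.f w) ≫ (x v).left = pullback.snd _ _ ≫ (x w).left := by
    intro v w
    haveI := hg v
    haveI := hg w
    let W : Over X := Over.mk ((pullback.fst (g v) (g w) ≫ g v) ≫ P.hom)
    haveI : Flat (W.hom ≫ f) := by dsimp [W]; infer_instance
    let pv : W ⟶ Over.mk (g v ≫ P.hom) := Over.homMk (pullback.fst (g v) (g w)) (Category.assoc _ _ _).symm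
    let pw : W ⟶ Over.mk (g w ≫ P.hom) := Over.homMk (pullback.snd (g v) (g w)) (by
      show pullback.snd (g v) (g w) ≫ g w ≫ P.hom = (pullback.fst (g v) (g w) ≫ g v) ≫ P.hom
      rw [pullback.condition, Category.assoc])
    have e1 := congrArg pv.left.appTop.hom (show (g v).appTop z = _ from hgx v)
    have e2 := congrArg pw.left.appTop.hom (show (g w).appTop z = _ from hgx w)
    rw [map_mul, map_add, map_one, map_mul] at e1 e2
    change _ = pv.left.appTop _ * (1 + pv.left.appTop _ * pv.left.appTop _) at e1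
    change _ = pw.left.appTop _ * (1 + pw.left.appTop _ * pw.left.appTop _) at e2
    rw [← lamOn_comp f pv, ← lamOn_comp f pv, ← tCoord_comp] at e1
    rw [← lamOn_comp f pw, ← lamOn_comp f pw, ← tCoord_comp] at e2
    have e0 : pv.left.appTop.hom ((g v).appTop z) = pw.left.appTop.hom ((g w).appTop z) :=
      congrArg (fun ψ => (ConcreteCategory.hom ψ) z)
        ((Scheme.Hom.comp_appTop (pullback.fst (g v) (g w)) (g v)).symm.trans
          ((congrArg Scheme.Hom.appTop pullback.condition).trans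
            (Scheme.Hom.comp_appTop (pullback.snd (g v) (g w)) (g w))))
    rw [e1, e2] at e0
    have e4 := (hr.map (strHom ((Over.map f).obj W))).mul_left_cancel e0
    have e5 : tCoord f (pv ≫ x v) - tCoord f (pw ≫ x w) = 0 := eq_zero_of_lamOn_mul f hlam (by
      linear_combination e4)
    exact congrArg CommaMorphism.left (tCoord_injective f (sub_eq_zero.1 e5))
  let xg : P ⟶ Red.bc f (SekSuwa.G R lam) :=
    Over.homMk (𝒰.glueMorphisms (fun v => (x v).left) hglue) (Scheme.Cover.hom_ext 𝒰 _ _ fun v => by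
      rw [Scheme.Cover.ι_glueMorphisms_assoc]; exact Over.w (x v))
  refine ⟨r, xg, hr, har, ?_⟩
  have huR : IsUnit (lamOn f r P) := hr.map _
  obtain ⟨u₁, hu₁⟩ := exists_uCoord f hz0.unit
  obtain ⟨u₂, hu₂⟩ := exists_uCoord f (huR.mul (isUnit_coord f xg)).unit
  rw [IsUnit.unit_spec] at hu₁ hu₂
  have : u₁ = u₂ := Over.OverMorphism.ext (Scheme.Cover.hom_ext 𝒰 _ _ fun v => by
    let yv : Over.mk (g v ≫ P.hom) ⟶ P := Over.homMk (g v) rfl
    refine congrArg CommaMorphism.left (uCoord_injective f (?_ : uCoord f (yv ≫ u₁) = uCoord f (yv ≫ u₂)))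
    rw [uCoord_comp, uCoord_comp, hu₁, hu₂]
    show (g v).appTop z = yv.left.appTop.hom _
    rw [map_mul, map_add, map_one, map_mul]
    show _ = yv.left.appTop _ * (1 + yv.left.appTop _ * yv.left.appTop _)
    rw [← lamOn_comp f yv, ← lamOn_comp f yv, ← tCoord_comp, show (g v).appTop z = _ from hgx v,
      show yv ≫ xg = x v from Over.OverMorphism.ext (Scheme.Cover.ι_glueMorphisms 𝒰 _ hglue v)])
  rw [← hu₁, this, hu₂]

end Groth.Agent.GKBase
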