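import Groth.Agent.SekSuwaLib.GLamPts
import Groth.Agent.SekSuwaLib.GKPoints
import Groth.Agent.GKBase.Alg
import Groth.Agent.S14693
import Groth.Agent.SchTorsor.Basic
import Mathlib.AlgebraicGeometry.Morphisms.FinitePresentation
import Mathlib.RingTheory.FinitePresentation

/-!
# The fibres of `ψ_{λ,N}` over points of the base
-/

set_option autoImplicit false
set_option backward.isDefEq.respectTransparency false
set_option backward.isDefEq.respectTransparency.types false
set_option linter.style.haveILetI false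

universe u

open CategoryTheory MonoidalCategory CartesianMonoidalCategory MonObj GrpObj AlgebraicGeometry

noncomputable section

namespace Groth.Agent.GKBase

open Groth.Agent.SekSuwaLib

variable {R : Type u} [CommRing R] {lam : R} {N : ℕ} (h : SekSuwa.DivCond lam N)

theorem coeff_psiPoly {k : ℕ} (hk : 0 < k) :
    lam ^ N * (SekSuwa.psiPoly lam N h).coeff k = lam ^ k * (N.choose k : R) := by
  have h1 := congrArg (fun q => Polynomial.coeff q k) (SekSuwa.psiPoly_spec h)
  simp only [Polynomial.coeff_C_mul] at h1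
  rw [h1, Polynomial.coeff_sub, Polynomial.coeff_one, if_neg hk.ne', sub_zero, add_comm, add_pow,
    Polynomial.finsetSum_coeff]
  simp only [mul_pow, one_pow, _root_.mul_one, ← Polynomial.C_pow, ← Polynomial.C_eq_natCast,
    Polynomial.coeff_mul_C, Polynomial.coeff_C_mul_X_pow]
  rw [Finset.sum_eq_single k]
  · simp
  · intro b _ hb; simp [Ne.symm hb]
  · intro hb
    rw [Finset.mem_range, not_lt] at hb
    simp [Nat.choose_eq_zero_of_lt (show N < k by omega)]

theorem psiPoly_monic (hN : 0 < N) :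
    (SekSuwa.psiPoly lam N h).Monic ∧ (SekSuwa.psiPoly lam N h).natDegree ≤ N ∧
      (SekSuwa.psiPoly lam N h).coeff N = 1 := by
  have hN1 : (SekSuwa.psiPoly lam N h).coeff N = 1 :=
    SekSuwa.cancel_nzd h.pow_nzd (by rw [coeff_psiPoly h hN, Nat.choose_self, Nat.cast_one])
  have hdeg : (SekSuwa.psiPoly lam N h).natDegree ≤ N :=
    Polynomial.natDegree_le_iff_coeff_eq_zero.2 fun k hk => SekSuwa.cancel_nzd h.pow_nzd (by
      rw [coeff_psiPoly h (by omega), Nat.choose_eq_zero_of_lt hk, Nat.cast_zero, mul_zero, mul_zero])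
  exact ⟨Polynomial.monic_of_natDegree_le_of_coeff_eq_one N hdeg hN1, hdeg, hN1⟩

/-- The equation of the fibre over `c`. -/
def fibPoly (c : R) : Polynomial R := SekSuwa.psiPoly lam N h - Polynomial.C c

theorem fibPoly_monic (hN : 0 < N) (c : R) : (fibPoly h c).Monic := by
  obtain ⟨-, hdeg, hN1⟩ := psiPoly_monic h hN
  refine Polynomial.monic_of_natDegree_le_of_coeff_eq_one N ?_ ?_
  · rw [fibPoly, Polynomial.natDegree_sub_C]; exact hdeg
  · rw [fibPoly, Polynomial.coeff_sub, hN1, Polynomial.coeff_C_ne_zero hN.ne', sub_zero]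

theorem fibPoly_natDegree [Nontrivial R] (hN : 0 < N) (c : R) : 0 < (fibPoly h c).natDegree := by
  obtain ⟨-, -, hN1⟩ := psiPoly_monic h hN
  rw [fibPoly, Polynomial.natDegree_sub_C]
  exact lt_of_lt_of_le hN (Polynomial.le_natDegree_of_ne_zero (by rw [hN1]; exact one_ne_zero))

/-- The coordinate ring of the fibre. -/
abbrev FB (c : R) : Type u := AdjoinRoot (fibPoly h c)

theorem aeval_root (c : R) :
    Polynomial.aeval (AdjoinRoot.root (fibPoly h c)) (SekSuwa.psiPoly lam N h) =
      algebraMap R (FB h c) c := by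
  have := AdjoinRoot.eval₂_root (fibPoly h c)
  rw [← AdjoinRoot.algebraMap_eq, ← Polynomial.aeval_def, fibPoly, map_sub, Polynomial.aeval_C, sub_eq_zero] at this
  exact this

/-- The fibre of `ψ_{λ,N}` over `c`. -/
abbrev fib (c : R) : Over (Spec (CommRingCat.of R)) := aff R (FB h c)

variable (hN : 0 < N) {c : R} (hc : IsUnit (1 + lam ^ N * c))

include hN hc in
theorem exists_inv : ∃ w : FB h c, (1 + lam • AdjoinRoot.root (fibPoly h c)) * w = 1 := by
  have h1 := SekSuwa.aeval_psiPoly h (AdjoinRoot.root (fibPoly h c))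
  rw [aeval_root, ← map_mul, ← Algebra.smul_def] at h1
  have h2 : IsUnit ((1 + lam • AdjoinRoot.root (fibPoly h c)) ^ N) := by
    rw [eq_add_of_sub_eq h1.symm, add_comm, ← map_one (algebraMap R (FB h c)), ← map_add]
    exact hc.map _
  exact ((isUnit_pow_iff hN.ne').1 h2).exists_right_inv

/-- The embedding of the fibre. -/
def jQ : fib h c ⟶ SekSuwa.G R lam :=
  algHomEquiv (SekSuwa.A R lam) (FB h c)
    (SekSuwa.A.lift R lam (AdjoinRoot.root (fibPoly h c)) (exists_inv h hN hc).choose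
      (exists_inv h hN hc).choose_spec)

variable {T : Over (Spec (CommRingCat.of R))}

theorem ptRingHom_jQ (q : T ⟶ fib h c) :
    ptRingHom (q ≫ jQ h hN hc) SekSuwa.A.t = ptRingHom q (AdjoinRoot.root (fibPoly h c)) := by
  let φ := SekSuwa.A.lift R lam (AdjoinRoot.root (fibPoly h c)) (exists_inv h hN hc).choose
    (exists_inv h hN hc).choose_spec
  rw [ptRingHom_comp q (jQ h hN hc) φ.toRingHom rfl]
  exact congrArg (ptRingHom q) (SekSuwa.A.lift_t _ _ _)

theorem jQ_inj {q q' : T ⟶ fib h c} (e : q ≫ jQ h hN hc = q' ≫ jQ h hN hc) : q = q' := by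
  refine ptRingHom_injective ?_
  letI := algΓ T
  let φ : FB h c →ₐ[R] Γ(T.left, ⊤) := { ptRingHom q with commutes' := ptRingHom_algebraMap q }
  let ψ : FB h c →ₐ[R] Γ(T.left, ⊤) := { ptRingHom q' with commutes' := ptRingHom_algebraMap q' }
  refine congrArg AlgHom.toRingHom (AdjoinRoot.algHom_ext (?_ : φ _ = ψ _))
  have := congrArg (fun x => ptRingHom x SekSuwa.A.t) e
  simp only [ptRingHom_jQ] at this
  exact this

theorem ptRingHom_kerGen (x : T ⟶ SekSuwa.G R lam) :
    letI := algΓ T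
    ptRingHom x (SekSuwa.kerGen lam N h) =
      Polynomial.aeval (ptRingHom x SekSuwa.A.t) (SekSuwa.psiPoly lam N h) := by
  letI := algΓ T
  let φ : SekSuwa.A R lam →ₐ[R] Γ(T.left, ⊤) := { ptRingHom x with commutes' := ptRingHom_algebraMap x }
  exact (Polynomial.aeval_algHom_apply φ SekSuwa.A.t (SekSuwa.psiPoly lam N h)).symm

theorem psi_t (x : T ⟶ SekSuwa.G R lam) :
    ptRingHom (x ≫ SekSuwa.psi R lam N h) SekSuwa.A.t = ptRingHom x (SekSuwa.kerGen lam N h) := by
  rw [SekSuwa.psi, ptRingHom_comp_specHom, SekSuwa.psiHom_t]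

theorem jQ_kerGen (q : T ⟶ fib h c) :
    ptRingHom (q ≫ jQ h hN hc) (SekSuwa.kerGen lam N h) = strHom T c := by
  letI := algΓ T
  let φ : FB h c →ₐ[R] Γ(T.left, ⊤) := { ptRingHom q with commutes' := ptRingHom_algebraMap q }
  rw [ptRingHom_kerGen, ptRingHom_jQ]
  show Polynomial.aeval (φ _) _ = _
  rw [Polynomial.aeval_algHom_apply, aeval_root, AlgHom.commutes]
  rfl

theorem exists_lift {x : T ⟶ SekSuwa.G R lam}
    (hx : ptRingHom x (SekSuwa.kerGen lam N h) = strHom T c) : ∃ q : T ⟶ fib h c, q ≫ jQ h hN hc = x := by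
  letI := algΓ T
  rw [ptRingHom_kerGen] at hx
  let φ : FB h c →+* Γ(T.left, ⊤) := AdjoinRoot.lift (strHom T) (ptRingHom x SekSuwa.A.t) (by
    rw [fibPoly, Polynomial.eval₂_sub, Polynomial.eval₂_C, sub_eq_zero]
    exact hx)
  refine ⟨ofRingHom φ fun r => ?_, G_ext ?_⟩
  · rw [AdjoinRoot.algebraMap_eq]; exact AdjoinRoot.lift_of _
  · rw [ptRingHom_jQ, ptRingHom_ofRingHom]
    exact AdjoinRoot.lift_root _

theorem jQ_psi (q q' : T ⟶ fib h c) :
    q ≫ jQ h hN hc ≫ SekSuwa.psi R lam N h = q' ≫ jQ h hN hc ≫ SekSuwa.psi R lam N h := by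
  rw [← Category.assoc, ← Category.assoc]
  exact G_ext (by rw [psi_t, psi_t, jQ_kerGen, jQ_kerGen])

theorem act_mem :
    ptRingHom ((fst (SekSuwa.GK R lam N h) (fib h c) ≫ SekSuwa.incl R lam N h) *
        (snd (SekSuwa.GK R lam N h) (fib h c) ≫ jQ h hN hc)) (SekSuwa.kerGen lam N h) =
      strHom (SekSuwa.GK R lam N h ⊗ fib h c) c := by
  rw [← psi_t, MonObj.mul_comp, Category.assoc (fst _ _), SekSuwa.incl_psi, MonObj.comp_one, _root_.one_mul,
    psi_t, jQ_kerGen]

/-- The action of `G_{λ,N}` on the fibre. -/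
def actMor : SekSuwa.GK R lam N h ⊗ fib h c ⟶ fib h c := (exists_lift h hN hc (act_mem h hN hc)).choose

theorem actMor_jQ (g : T ⟶ SekSuwa.GK R lam N h) (q : T ⟶ fib h c) :
    lift g q ≫ actMor h hN hc ≫ jQ h hN hc = (g ≫ SekSuwa.incl R lam N h) * (q ≫ jQ h hN hc) := by
  rw [show actMor h hN hc ≫ jQ h hN hc = _ from (exists_lift h hN hc (act_mem h hN hc)).choose_spec,
    MonObj.comp_mul, lift_fst_assoc, lift_snd_assoc]

/-- The fibre with its action. -/
def fibAct : AlgGrp.Action (SekSuwa.GK R lam N h) (fib h c) where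
  act := actMor h hN hc
  one_act := by
    refine jQ_inj h hN hc ?_
    have e : η[SekSuwa.GK R lam N h] ▷ fib h c =
        lift (1 : 𝟙_ _ ⊗ fib h c ⟶ SekSuwa.GK R lam N h) (snd _ _) := by
      apply CartesianMonoidalCategory.hom_ext
      · rw [whiskerRight_fst, lift_fst, Hom.one_def, toUnit_unique (fst _ _) (toUnit _)]
      · rw [whiskerRight_snd, lift_snd]
    rw [Category.assoc, e, actMor_jQ, MonObj.one_comp, _root_.one_mul, leftUnitor_hom]
  mul_act := by
    refine jQ_inj h hN hc ?_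
    let G := SekSuwa.GK R lam N h
    have e1 : μ[G] ▷ fib h c =
        lift ((fst (G ⊗ G) (fib h c) ≫ fst G G) * (fst (G ⊗ G) (fib h c) ≫ snd G G)) (snd (G ⊗ G) (fib h c)) := by
      apply CartesianMonoidalCategory.hom_ext
      · rw [whiskerRight_fst, lift_fst, ← MonObj.comp_mul, Hom.mul_def, lift_fst_snd, Category.id_comp]
      · rw [whiskerRight_snd, lift_snd]
    have e2 : (α_ G G (fib h c)).hom ≫ G ◁ actMor h hN hc =
        lift (fst (G ⊗ G) (fib h c) ≫ fst G G)
          (lift (fst (G ⊗ G) (fib h c) ≫ snd G G) (snd (G ⊗ G) (fib h c)) ≫ actMor h hN hc) := by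
      apply CartesianMonoidalCategory.hom_ext
      · rw [Category.assoc, whiskerLeft_fst, associator_hom_fst, lift_fst]
      · rw [Category.assoc, whiskerLeft_snd, lift_snd, ← Category.assoc]
        congr 1
        apply CartesianMonoidalCategory.hom_ext
        · rw [Category.assoc, associator_hom_snd_fst, lift_fst]
        · rw [Category.assoc, associator_hom_snd_snd, lift_snd]
    rw [e1, ← Category.assoc (α_ G G (fib h c)).hom, e2, Category.assoc, Category.assoc, actMor_jQ, actMor_jQ,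
      Category.assoc (lift _ _) (actMor h hN hc), actMor_jQ, MonObj.mul_comp, _root_.mul_assoc]

theorem fibAct_jQ (g : T ⟶ SekSuwa.GK R lam N h) (q : T ⟶ fib h c) :
    (lift g q ≫ (fibAct h hN hc).act) ≫ jQ h hN hc = (g ≫ SekSuwa.incl R lam N h) * (q ≫ jQ h hN hc) :=
  (Category.assoc _ _ _).trans (actMor_jQ h hN hc g q)

theorem isPseudo : NonAbH1.IsPseudoTorsorSch (fibAct h hN hc) := by
  let G := SekSuwa.GK R lam N h
  let Q := fib h c
  have hK : AlgGrp.IsKernel (SekSuwa.incl R lam N h) (SekSuwa.psi R lam N h) := Groth.Agent.S14693.result R lam N h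
  let a := (fst Q Q ≫ jQ h hN hc) * (snd Q Q ≫ jQ h hN hc)⁻¹
  have ha : a ≫ SekSuwa.psi R lam N h = toUnit (Q ⊗ Q) ≫ η := by
    rw [MonObj.mul_comp, GrpObj.inv_comp, Category.assoc, Category.assoc, jQ_psi h hN hc (fst Q Q) (snd Q Q),
      mul_inv_cancel, ← Hom.one_def]
  let g : Q ⊗ Q ⟶ G := hK.lift a (toUnit _) ha
  have hg : g ≫ SekSuwa.incl R lam N h = a := hK.lift_fst _ _ _
  have hinj : ∀ {T : Over (Spec (CommRingCat.of R))} (g g' : T ⟶ G),
      g ≫ SekSuwa.incl R lam N h = g' ≫ SekSuwa.incl R lam N h → g = g' :=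
    fun {T} g g' e => hK.hom_ext e (toUnit_unique _ _)
  have key : ∀ {T : Over (Spec (CommRingCat.of R))} (g₀ : T ⟶ G) (q : T ⟶ Q),
      lift g₀ q ≫ lift (fibAct h hN hc).act (snd G Q) = lift (lift g₀ q ≫ (fibAct h hN hc).act) q := fun {T} g₀ q => by
    rw [comp_lift, lift_snd]
  refine ⟨lift g (snd Q Q), ?_, ?_⟩
  · refine CartesianMonoidalCategory.hom_ext _ _ ?_ ?_
    · refine hinj _ _ ?_
      rw [Category.assoc, Category.assoc, lift_fst_assoc, Category.id_comp, hg]
      show _ ≫ ((fst Q Q ≫ jQ h hN hc) * (snd Q Q ≫ jQ h hN hc)⁻¹) = _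
      rw [MonObj.comp_mul, GrpObj.comp_inv, lift_fst_assoc, lift_snd_assoc]
      have e := fibAct_jQ h hN hc (fst G Q) (snd G Q)
      rw [lift_fst_snd, Category.id_comp] at e
      rw [e, mul_inv_cancel_right]
    · rw [Category.assoc, lift_snd, lift_snd, Category.id_comp]
  · rw [key]
    refine CartesianMonoidalCategory.hom_ext _ _ ?_ ?_
    · rw [lift_fst, Category.id_comp]
      refine jQ_inj h hN hc ?_
      rw [fibAct_jQ, hg]
      exact inv_mul_cancel_right _ _
    · rw [lift_snd, Category.id_comp]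

include hN hc in
theorem isTorsor [IsDomain R] :
    NonAbH1.IsTorsorFor Scheme.fppfPrecoverage (fibAct h hN hc) := by
  refine ⟨isPseudo h hN hc, ?_⟩
  haveI : Module.Free R (FB h c) := Module.Free.of_basis (AdjoinRoot.powerBasis' (fibPoly_monic h hN c)).basis
  haveI : Module.Finite R (FB h c) := (fibPoly_monic h hN c).finite_adjoinRoot
  haveI : Nontrivial (FB h c) := AdjoinRoot.nontrivial _ (by
    rw [Polynomial.degree_eq_natDegree (fibPoly_monic h hN c).ne_zero]
    exact_mod_cast (fibPoly_natDegree h hN c).ne')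
  haveI : Surjective (fib h c).hom := ⟨PrimeSpectrum.comap_surjective_of_faithfullyFlat⟩
  haveI : Flat (fib h c).hom :=
    (HasRingHomProperty.Spec_iff (P := @Flat)).2 (RingHom.flat_algebraMap_iff.2 inferInstance)
  haveI : LocallyOfFinitePresentation (fib h c).hom :=
    (HasRingHomProperty.Spec_iff (P := @LocallyOfFinitePresentation)).2
      (RingHom.finitePresentation_algebraMap.2 inferInstance)
  refine ⟨_, (fib h c).hom.singleton_mem_fppfPrecoverage, ?_⟩
  rintro S' g ⟨⟩
  exact ⟨𝟙 _, Category.id_comp _⟩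

end Groth.Agent.GKBase
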